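import Cfsg.Prelude.Def_CaseTheorems
import Cfsg.Prelude.Def_EvenType
import Mathlib

set_option autoImplicit false

open Matrix

namespace Cfsg.Agent.Lib.SignDiag.Basic

variable {ι F : Type*} [Fintype ι] [DecidableEq ι] [Field F]

theorem two_ne_zero_of_odd [Fintype F] (hF : Odd (Fintype.card F)) : (2 : F) ≠ 0 :=
  Ring.two_ne_zero fun h => by
    have h2 := FiniteField.even_card_iff_char_two.mp h
    rw [Nat.odd_iff] at hF
    omega

theorem sign_unique (h2 : (2 : F) ≠ 0) {c : F} (hc : c = 1 ∨ c = -1) {d : F} (hd : d = 1 ∨ d = -1)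
    (h : c = 1 ↔ d = 1) : c = d := by
  have hne : (-1 : F) ≠ 1 := fun e => h2 (by linear_combination -e)
  rcases hc with rfl | rfl <;> rcases hd with rfl | rfl <;> simp_all

/-- Common eigenvectors of a finite commuting family of involutions span. -/
theorem span_eigen_eq_top {A : Type*} [CommGroup A] (ρ : A →* GL ι F) (h2 : (2 : F) ≠ 0)
    (hsq : ∀ a : A, a * a = 1) (s : Finset A) :
    Submodule.span F {v : ι → F | ∀ a ∈ s, (ρ a : Matrix ι ι F) *ᵥ v = v ∨
      (ρ a : Matrix ι ι F) *ᵥ v = -v} = ⊤ := by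
  classical
  induction s using Finset.induction_on with
  | empty => simp
  | @insert b s hb ih =>
    refine eq_top_iff.mpr (ih.ge.trans (Submodule.span_le.mpr ?_))
    intro v hv
    have hbb : (ρ b : Matrix ι ι F) *ᵥ ((ρ b : Matrix ι ι F) *ᵥ v) = v := by
      rw [Matrix.mulVec_mulVec, ← Units.val_mul, ← map_mul, hsq, map_one, Units.val_one,
        Matrix.one_mulVec]
    have key : ∀ a ∈ s, ∀ (w : ι → F) (e : F), (ρ a : Matrix ι ι F) *ᵥ v = e • v →
        w = (ρ b : Matrix ι ι F) *ᵥ v → (ρ a : Matrix ι ι F) *ᵥ w = e • w := by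
      intro a _ w e he hw
      rw [hw, Matrix.mulVec_mulVec, ← Units.val_mul, ← map_mul, mul_comm a b, map_mul,
        Units.val_mul, ← Matrix.mulVec_mulVec, he, Matrix.mulVec_smul]
    set w := (ρ b : Matrix ι ι F) *ᵥ v with hw
    have hmem : ∀ u : ι → F, (u = v + w ∨ u = v - w) → u ∈ {x : ι → F | ∀ a ∈ insert b s,
        (ρ a : Matrix ι ι F) *ᵥ x = x ∨ (ρ a : Matrix ι ι F) *ᵥ x = -x} := by
      intro u hu a ha
      rcases Finset.mem_insert.mp ha with rfl | ha'
      · rcases hu with rfl | rfl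
        · left
          rw [Matrix.mulVec_add, hbb, ← hw, add_comm]
        · right
          rw [Matrix.mulVec_sub, hbb, ← hw, neg_sub]
      · rcases hv a ha' with h | h
        · left
          have h' := key a ha' w 1 (by rw [h, one_smul]) rfl
          rw [one_smul] at h'
          rcases hu with rfl | rfl
          · rw [Matrix.mulVec_add, h, h']
          · rw [Matrix.mulVec_sub, h, h']
        · right
          have h' := key a ha' w (-1) (by rw [h, neg_one_smul]) rfl
          rw [neg_one_smul] at h'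
          rcases hu with rfl | rfl
          · rw [Matrix.mulVec_add, h, h']; abel
          · rw [Matrix.mulVec_sub, h, h']; abel
    have hv2 : v = (2⁻¹ : F) • ((v + w) + (v - w)) := by
      rw [add_add_sub_cancel, ← two_smul F v, smul_smul, inv_mul_cancel₀ h2, one_smul]
    rw [hv2]
    exact Submodule.smul_mem _ _ (add_mem (Submodule.subset_span (hmem _ (Or.inl rfl)))
      (Submodule.subset_span (hmem _ (Or.inr rfl))))

/-- Simultaneous diagonalisation of a finite elementary abelian 2-group of matrices. -/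
theorem exists_diagonal {A : Type*} [CommGroup A] [Fintype A] (ρ : A →* GL ι F) (h2 : (2 : F) ≠ 0)
    (hsq : ∀ a : A, a * a = 1) :
    ∃ (Q : GL ι F) (χ : ι → A → F), (∀ i a, χ i a = 1 ∨ χ i a = -1) ∧
      ∀ a, (ρ a : Matrix ι ι F) * (Q : Matrix ι ι F) =
        (Q : Matrix ι ι F) * Matrix.diagonal fun i => χ i a := by
  classical
  let b0 := Module.Basis.ofSpan (span_eigen_eq_top ρ h2 hsq Finset.univ).ge
  let b : Module.Basis ι F (ι → F) := b0.reindex (b0.indexEquiv (Pi.basisFun F ι))
  have hb : ∀ i a, (ρ a : Matrix ι ι F) *ᵥ b i = b i ∨ (ρ a : Matrix ι ι F) *ᵥ b i = -b i := by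
    intro i a
    have hr : b0 ((b0.indexEquiv (Pi.basisFun F ι)).symm i) ∈ Set.range b0 := ⟨_, rfl⟩
    have := Module.Basis.ofSpan_subset (span_eigen_eq_top ρ h2 hsq Finset.univ).ge hr a
      (Finset.mem_univ a)
    simpa [b] using this
  let χ : ι → A → F := fun i a => if (ρ a : Matrix ι ι F) *ᵥ b i = b i then 1 else -1
  have hχ : ∀ i a, (ρ a : Matrix ι ι F) *ᵥ b i = χ i a • b i := by
    intro i a
    by_cases h : (ρ a : Matrix ι ι F) *ᵥ b i = b i
    · simp only [χ, if_pos h, one_smul, h]
    · simp only [χ, if_neg h, neg_one_smul]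
      exact (hb i a).resolve_left h
  let M : Matrix ι ι F := (Pi.basisFun F ι).toMatrix b
  have : Invertible M := Module.Basis.invertibleToMatrix _ _
  refine ⟨unitOfInvertible M, χ, fun i a => ?_, fun a => ?_⟩
  · dsimp only [χ]
    split_ifs <;> simp
  · ext i j
    have h1 := congrFun (hχ j a) i
    simp only [Matrix.mulVec, dotProduct, Pi.smul_apply, smul_eq_mul] at h1
    rw [val_unitOfInvertible, Matrix.mul_apply, Matrix.mul_diagonal]
    simp only [M, Module.Basis.toMatrix_apply, Pi.basisFun_repr]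
    rw [h1, mul_comm]

theorem eq_of_signs {A : Type*} [CommGroup A] (ρ : A →* GL ι F) (hρ : Function.Injective ρ)
    {Q : GL ι F} {χ : ι → A → F}
    (hd : ∀ a, (ρ a : Matrix ι ι F) * (Q : Matrix ι ι F) =
        (Q : Matrix ι ι F) * Matrix.diagonal fun i => χ i a)
    {a b : A} (h : ∀ i, χ i a = χ i b) : a = b := by
  apply hρ
  apply Units.ext
  have e : (ρ a : Matrix ι ι F) * (Q : Matrix ι ι F) = (ρ b : Matrix ι ι F) * (Q : Matrix ι ι F) := by
    rw [hd, hd]
    congr 2
    exact funext h
  exact Q.isUnit.mul_right_cancel e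

theorem det_eq_prod {A : Type*} [CommGroup A] (ρ : A →* GL ι F) {Q : GL ι F} {χ : ι → A → F}
    (hd : ∀ a, (ρ a : Matrix ι ι F) * (Q : Matrix ι ι F) =
        (Q : Matrix ι ι F) * Matrix.diagonal fun i => χ i a) (a : A) :
    ∏ i, χ i a = (ρ a : Matrix ι ι F).det := by
  have h := congrArg Matrix.det (hd a)
  rw [Matrix.det_mul, Matrix.det_mul, Matrix.det_diagonal] at h
  have hQ : (Q : Matrix ι ι F).det ≠ 0 := Q.isUnit.map Matrix.detMonoidHom |>.ne_zero
  exact mul_left_cancel₀ hQ (by linear_combination -h)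

/-- A group of matrices of determinant one has 2-rank at most one less than the degree. -/
theorem pRankLE_of_det {G : Type*} [Group G] [Finite G] [Fintype F] (f : G →* GL ι F)
    (hf : Function.Injective f) (hdet : ∀ g, (f g : Matrix ι ι F).det = 1)
    (h2 : (2 : F) ≠ 0) (k : ℕ) (hk : Fintype.card ι = k + 1) : Cfsg.PRankLE 2 k G := by
  classical
  intro A hA hsq
  let _ : CommGroup ↥A := { (inferInstance : Group ↥A) with mul_comm := fun a b => hA.is_comm.comm a b }
  have : Fintype ↥A := Fintype.ofFinite _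
  obtain ⟨Q, χ, hχ, hd⟩ := exists_diagonal (f.comp A.subtype) h2
    (fun a => Subtype.ext (by simpa [pow_two] using hsq a a.2))
  obtain ⟨i0⟩ : Nonempty ι := Fintype.card_pos_iff.mp (by omega)
  let Φ : ↥A → ({i : ι // i ≠ i0} → Bool) := fun a i => decide (χ i.1 a = 1)
  have hΦ : Function.Injective Φ := by
    intro a b h
    refine eq_of_signs _ (hf.comp A.subtype_injective) hd fun i => ?_
    have hne : ∀ i, i ≠ i0 → χ i a = χ i b := fun i hi =>
      sign_unique h2 (hχ i a) (hχ i b) (by simpa [Φ] using congrFun h ⟨i, hi⟩)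
    by_cases hi : i = i0
    · subst hi
      have ha := det_eq_prod _ hd a
      have hb := det_eq_prod _ hd b
      simp only [MonoidHom.comp_apply, hdet] at ha hb
      rw [← Finset.mul_prod_erase _ _ (Finset.mem_univ i)] at ha hb
      rw [Finset.prod_congr rfl fun j hj => (hne j (Finset.mem_erase.mp hj).1).symm] at hb
      have h0 : (∏ j ∈ Finset.univ.erase i, χ j a) ≠ 0 := fun e => by
        rw [e, mul_zero] at ha; exact zero_ne_one ha
      exact mul_right_cancel₀ h0 (ha.trans hb.symm)
    · exact hne i hi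
  refine (Nat.card_le_card_of_injective Φ hΦ).trans (le_of_eq ?_)
  rw [Nat.card_fun, Nat.card_eq_fintype_card, Fintype.card_bool, Nat.card_eq_fintype_card,
    Fintype.card_subtype_compl, Fintype.card_subtype_eq, hk, Nat.add_sub_cancel]

/-- A copy of `(ℤˣ)^κ` gives 2-rank at least `|κ|`. -/
theorem pRankAtLeast_of_hom {G : Type*} [Group G] {κ : Type*} [Fintype κ] (f : (κ → ℤˣ) →* G)
    (hf : Function.Injective f) : Cfsg.PRankAtLeast 2 (Fintype.card κ) G := by
  refine ⟨f.range, ⟨⟨fun a b => ?_⟩⟩, ?_, ?_⟩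
  · obtain ⟨_, x, rfl⟩ := a
    obtain ⟨_, y, rfl⟩ := b
    exact Subtype.ext (show f x * f y = f y * f x by rw [← map_mul, mul_comm, map_mul])
  · rintro _ ⟨x, rfl⟩
    rw [← map_pow]
    convert map_one f
    funext i
    exact Int.units_sq (x i)
  · rw [← Nat.card_congr (MonoidHom.ofInjective hf).toEquiv, Nat.card_fun,
      Nat.card_eq_fintype_card, Fintype.card_units_int, Nat.card_eq_fintype_card]

end Cfsg.Agent.Lib.SignDiag.Basic
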